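/-
Flat quasi-finite lci maps are locally square presentations.
-/
import Groth.Agent.RelGCI.Main
import Groth.Agent.KReg44.Append
import Groth.Agent.CAlg48.QRBase
import Groth.Agent.SymGr.Regular
import Groth.Agent.VarDim.Algebra
import Mathlib.RingTheory.TensorProduct.MvPolynomial
import Mathlib.RingTheory.KrullDimension.Regular
import Mathlib.RingTheory.RingHom.QuasiFinite

open MvPolynomial TensorProduct RingTheory.Sequence

universe u

namespace Groth.Agent.LCISquare

variable {A : Type u} [CommRing A]

/-- A Koszul-regular sequence with flat quotient having a nonempty finite fibre has as many members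
as there are variables. -/
theorem length_eq {m d : ℕ} (f : Fin d → MvPolynomial (Fin m) A)
    (hf : LCI.IsKoszulRegularSeq (MvPolynomial (Fin m) A) (List.ofFn f))
    [Module.Flat A (MvPolynomial (Fin m) A ⧸ Ideal.span (Set.range f))]
    (p : Ideal A) [p.IsPrime]
    [Module.Finite p.ResidueField (p.Fiber (MvPolynomial (Fin m) A ⧸ Ideal.span (Set.range f)))]
    [Nontrivial (p.Fiber (MvPolynomial (Fin m) A ⧸ Ideal.span (Set.range f)))] : d = m := by
  let κ := p.ResidueField
  let Pκ := MvPolynomial (Fin m) κ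
  let g : Fin d → Pκ := fun i => map (algebraMap A κ) (f i)
  let J := Ideal.span (Set.range g)
  obtain ⟨e⟩ : Nonempty (p.Fiber (Synt.RelGCIRing A m d f) ≃ₐ[κ] (Pκ ⧸ J)) :=
    RelGCI.nonempty_fiberEquiv f p
  have : Nontrivial (Pκ ⧸ J) := e.symm.toEquiv.nontrivial
  have : Module.Finite κ (Pκ ⧸ J) := Module.Finite.equiv e.toLinearEquiv
  have : IsArtinianRing (Pκ ⧸ J) := IsArtinianRing.of_finite κ _
  have hne : J ≠ ⊤ := Ideal.Quotient.nontrivial_iff.1 inferInstance
  obtain ⟨M, hM, hJM⟩ := Ideal.exists_le_maximal J hne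
  have hq := KReg44.isQuasiRegular f hf
  have h1 := CAlg48.QRBase.isQuasiRegular_baseChange (A := A) (A' := κ) (f := f) hq
  have h2 : CAlgX.IsQuasiRegular g := by
    have := CAlg48.QRBase.isQuasiRegular_of_ringEquiv
      (algebraTensorAlgEquiv (σ := Fin m) A κ).toRingEquiv h1
    convert this using 2 with i
    exact ((algebraTensorAlgEquiv_tmul A κ (1 : κ) (f i)).trans (one_smul _ _)).symm
  let S := Localization.AtPrime M
  have h3 : CAlgX.IsQuasiRegular fun i => algebraMap Pκ S (g i) :=
    CAlg48.QRBase.isQuasiRegular_of_flat h2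
  have hmem : ∀ i, algebraMap Pκ S (g i) ∈ IsLocalRing.maximalIdeal S := fun i => by
    rw [← IsLocalization.AtPrime.map_eq_maximalIdeal M S]
    exact Ideal.mem_map_of_mem _ (hJM (Ideal.subset_span (Set.mem_range_self i)))
  have h4 : IsWeaklyRegular S (List.ofFn fun i => algebraMap Pκ S (g i)) :=
    SymGr.Regular.isWeaklyRegular_of_isQuasiRegular d _
      (fun i => by rw [IsLocalRing.ringJacobson_eq_maximalIdeal]; exact hmem i) h3
  set rs := List.ofFn fun i => algebraMap Pκ S (g i) with hrs
  have hle : Ideal.ofList rs ≤ IsLocalRing.maximalIdeal S := by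
    rw [Ideal.ofList, Ideal.span_le]
    intro x hx
    obtain ⟨i, rfl⟩ := List.mem_ofFn.1 hx
    exact hmem i
  have hreg : IsRegular S rs := by
    refine ⟨h4, fun htop => ?_⟩
    rw [smul_eq_mul, Ideal.mul_top] at htop
    exact (IsLocalRing.maximalIdeal.isMaximal S).ne_top (top_le_iff.1 (htop.le.trans hle))
  have hlist : Ideal.ofList rs = J.map (algebraMap Pκ S) := by
    rw [Ideal.map_span, ← Set.range_comp, KReg44.span_range_eq_ofList]; rfl
  have h0 : ringKrullDim (S ⧸ Ideal.ofList rs) = 0 := by
    rw [hlist]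
    have : Nontrivial (S ⧸ J.map (algebraMap Pκ S)) := by
      rw [← hlist]
      exact Ideal.Quotient.nontrivial_iff.2
        (ne_top_of_le_ne_top (IsLocalRing.maximalIdeal.isMaximal S).ne_top hle)
    refine le_antisymm ?_ ringKrullDim_nonneg_of_nontrivial
    have hK : ringKrullDim (Pκ ⧸ J) = 0 :=
      ringKrullDimZero_iff_ringKrullDim_eq_zero.1 inferInstance
    rw [← hK]
    let γ : Pκ ⧸ J →+* S ⧸ J.map (algebraMap Pκ S) :=
      Ideal.quotientMap _ (algebraMap Pκ S) Ideal.le_comap_map
    have hinj : Function.Injective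
        (PrimeSpectrum.comap (R := Pκ ⧸ J) (S := S ⧸ J.map (algebraMap Pκ S)) γ) := by
      have h1 : Function.Injective (PrimeSpectrum.comap (R := Pκ) (S := S ⧸ J.map (algebraMap Pκ S))
          ((Ideal.Quotient.mk (J.map (algebraMap Pκ S))).comp (algebraMap Pκ S))) := by
        rw [PrimeSpectrum.comap_comp]
        exact (PrimeSpectrum.localization_comap_injective S M.primeCompl).comp
          (PrimeSpectrum.comap_injective_of_surjective _ Ideal.Quotient.mk_surjective)
      rw [show (Ideal.Quotient.mk (J.map (algebraMap Pκ S))).comp (algebraMap Pκ S) =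
        γ.comp (Ideal.Quotient.mk J) from rfl, PrimeSpectrum.comap_comp] at h1
      exact Function.Injective.of_comp h1
    refine Order.krullDim_le_of_strictMono
      (PrimeSpectrum.comap (R := Pκ ⧸ J) (S := S ⧸ J.map (algebraMap Pκ S)) γ) ?_
    exact Monotone.strictMono_of_injective (fun x y hxy => Ideal.comap_mono hxy) hinj
  have h5 := ringKrullDim_add_length_eq_ringKrullDim_of_isRegular rs hreg
  rw [h0, zero_add, IsLocalization.AtPrime.ringKrullDim_eq_height M S,
    VarDim.height_eq_of_isMaximal_mvPolynomial κ m M hM, hrs, List.length_ofFn] at h5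
  exact_mod_cast h5

variable {B : Type u} [CommRing B] [Algebra A B]

/-- Presentation of a basic open by a Koszul-regular sequence. -/
theorem exists_presentation {n : ℕ} (φ : MvPolynomial (Fin n) A →ₐ[A] B) (hφ : Function.Surjective φ)
    (G : MvPolynomial (Fin n) A) (rs : List (Localization.Away G))
    (hrs : LCI.IsKoszulRegularSeq (Localization.Away G) rs)
    (hI : (RingHom.ker φ.toRingHom).map (algebraMap _ (Localization.Away G)) = Ideal.ofList rs) :
    ∃ (d : ℕ) (f : Fin d → MvPolynomial (Fin (n + 1)) A),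
      LCI.IsKoszulRegularSeq (MvPolynomial (Fin (n + 1)) A) (List.ofFn f) ∧
      Nonempty (Localization.Away (φ G) ≃ₐ[A]
        (MvPolynomial (Fin (n + 1)) A ⧸ Ideal.span (Set.range f))) := by
  let T := Localization.Away G
  let Sg := Localization.Away (φ G)
  let σ : Polynomial (MvPolynomial (Fin n) A) →ₐ[MvPolynomial (Fin n) A] T :=
    (Localization.awayEquivAdjoin G).symm.toAlgHom.comp (AdjoinRoot.mkₐ _)
  have hσ : Function.Surjective σ :=
    (Localization.awayEquivAdjoin G).symm.surjective.comp AdjoinRoot.mk_surjective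
  let r := Polynomial.C G * Polynomial.X - 1
  have hσk : RingHom.ker σ.toRingHom = Ideal.span {r} := by
    ext x
    rw [RingHom.mem_ker, Ideal.mem_span_singleton, ← AdjoinRoot.mk_eq_zero]
    exact (Localization.awayEquivAdjoin G).symm.map_eq_zero_iff
  have hr : ∀ x, r * x = 0 → x = 0 := fun x hx => by
    refine Polynomial.ext fun k => ?_
    induction k with
    | zero =>
      have := congrArg (fun p => Polynomial.coeff p 0) hx
      simpa [r, sub_mul, mul_assoc] using this
    | succ k ih =>
      have := congrArg (fun p => Polynomial.coeff p (k + 1)) hx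
      simpa [r, sub_mul, mul_assoc, ih, Polynomial.coeff_zero] using this
  obtain ⟨L, hL⟩ := List.map_surjective_iff.2 hσ rs
  have hw : LCI.IsKoszulRegularSeq (Polynomial (MvPolynomial (Fin n) A)) (L ++ [r]) :=
    KReg44.isKoszulRegularSeq_append σ.toRingHom (KReg44.isKoszulRegularSeq_singleton hr) hσ
      (by rw [hσk, Ideal.ofList_singleton]) (by rw [show List.map σ.toRingHom L = rs from hL]; exact hrs)
  let e := finSuccEquiv A n
  let L' : List (MvPolynomial (Fin (n + 1)) A) := (L ++ [r]).map e.symm.toRingEquiv.toRingHom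
  have hw' : LCI.IsKoszulRegularSeq (MvPolynomial (Fin (n + 1)) A) L' :=
    KReg44.isKoszulRegularSeq_map _ (RingHom.Flat.of_bijective e.symm.bijective) hw
  let γ₀ : T →ₐ[A] Sg := Localization.awayMapₐ φ G
  haveI : IsLocalization ((Submonoid.powers G).map φ.toRingHom) Sg := by
    rw [Submonoid.map_powers]; exact inferInstanceAs (IsLocalization (Submonoid.powers _) Sg)
  have hγk : RingHom.ker γ₀.toRingHom = Ideal.ofList rs := by
    rw [← hI]
    exact IsLocalization.ker_map (Q := Sg) (S := T) (g := φ.toRingHom) (T := Submonoid.powers (φ G))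
      (by rw [Submonoid.map_powers]; rfl)
  have hγs : Function.Surjective γ₀ :=
    IsLocalization.map_surjective_of_surjective (M := Submonoid.powers G) (S := T) (Q := Sg)
      (g := φ.toRingHom) hφ
  let Φ : MvPolynomial (Fin (n + 1)) A →ₐ[A] Sg :=
    (γ₀.comp (σ.restrictScalars A)).comp e.toAlgHom
  have hΦs : Function.Surjective Φ := hγs.comp (hσ.comp e.surjective)
  have hΦk : RingHom.ker Φ.toRingHom = Ideal.ofList L' := by
    change RingHom.ker ((γ₀.toRingHom.comp σ.toRingHom).comp e.toRingEquiv.toRingHom) = _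
    rw [← RingHom.comap_ker, ← RingHom.comap_ker, hγk, ← hL]
    rw [show List.map σ L = List.map σ.toRingHom L from rfl, ← Ideal.map_ofList σ.toRingHom,
      Ideal.comap_map_of_surjective σ.toRingHom hσ, ← RingHom.ker_eq_comap_bot, hσk,
      ← Ideal.ofList_singleton, ← Ideal.ofList_append, ← Ideal.map_ofList]
    exact (Ideal.map_symm (f := e.toRingEquiv) (I := Ideal.ofList (L ++ [r]))).symm
  refine ⟨L'.length, fun i => L'.get i, by rwa [List.ofFn_get], ⟨?_⟩⟩
  exact ((Ideal.quotientKerAlgEquivOfSurjective hΦs).symm).trans (Ideal.quotientEquivAlgOfEq A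
    (by rw [KReg44.span_range_eq_ofList, List.ofFn_get]; exact hΦk))

theorem exists_square [Module.Flat A B] [Algebra.QuasiFinite A B] (h : LCI.IsLCI A B)
    (q : Ideal B) [q.IsPrime] :
    ∃ g : B, g ∉ q ∧ ∃ (n : ℕ) (f : Fin n → MvPolynomial (Fin n) A),
      Nonempty (Localization.Away g ≃ₐ[A]
        (MvPolynomial (Fin n) A ⧸ Ideal.span (Set.range f))) := by
  obtain ⟨-, n, φ, hφ, hker⟩ := h
  obtain ⟨G, hG, rs, hrs, hI⟩ := hker ⟨q.comap φ.toRingHom, inferInstance⟩ fun x hx => by
    show φ x ∈ q
    rw [show φ x = 0 from RingHom.mem_ker.1 hx]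
    exact q.zero_mem
  obtain ⟨d, f, hf, ⟨e⟩⟩ := exists_presentation φ hφ G rs hrs hI
  have hd : d = n + 1 := by
    let Bg := Localization.Away (φ G)
    let D := MvPolynomial (Fin (n + 1)) A ⧸ Ideal.span (Set.range f)
    have : Module.Flat B Bg := IsLocalization.flat Bg (Submonoid.powers (φ G))
    have : Module.Flat A Bg := Module.Flat.trans A B Bg
    have : Module.Flat A D := Module.Flat.of_linearEquiv e.symm.toLinearEquiv
    have : Algebra.QuasiFinite B Bg := Algebra.QuasiFinite.of_isLocalization (Submonoid.powers (φ G))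
    have : Algebra.QuasiFinite A Bg := Algebra.QuasiFinite.trans A B Bg
    have : Algebra.QuasiFinite A D :=
      Algebra.QuasiFinite.of_surjective_algHom e.toAlgHom e.surjective
    let q' : Ideal Bg := q.map (algebraMap B Bg)
    have hq' : q'.IsPrime :=
      IsLocalization.isPrime_of_isPrime_disjoint (Submonoid.powers (φ G)) Bg q inferInstance
        (Set.disjoint_left.2 fun x hx hxq => by
          obtain ⟨j, rfl⟩ := hx
          exact hG (show φ G ∈ q from Ideal.IsPrime.mem_of_pow_mem inferInstance j hxq))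
    let Qb : Ideal D := q'.comap e.symm.toRingEquiv.toRingHom
    let p := Qb.comap (algebraMap A D)
    have : Nontrivial (p.Fiber D) := RelGCI.nontrivial_fiber Qb
    have : Module.Finite p.ResidueField (p.Fiber D) := Algebra.QuasiFinite.finite_fiber p
    exact length_eq f hf p
  subst hd
  exact ⟨φ G, hG, n + 1, f, ⟨e⟩⟩

end Groth.Agent.LCISquare
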